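import Groth.Agent.ConsPropLib.CoreProper
import Groth.Agent.ConsPropLib.FibreAss
import Groth.Agent.H1FlatLimit.Noeth
import Groth.Agent.NormX.AmpleFibre
import Groth.Agent.RGLib.Lim8RelAmple
import Groth.Agent.AmpleX.RelAffine
import Groth.Agent.Lib.InvEnd
import Groth.Agent.ProjUPX.Affine
import Groth.Agent.SeesawGen.Rep
import Groth.Agent.H23.PicMul
import Groth.Agent.Lib.CurveDualPrep
import Groth.Agent.S4792
import Groth.Agent.S1152
import Mathlib

/-!
# Relative ampleness on the fibres of a proper morphism of finite presentation (EGA IV 9.6.4-9.6.5)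
-/

universe u

set_option autoImplicit false
set_option linter.style.haveILetI false
set_option backward.isDefEq.respectTransparency false
set_option backward.isDefEq.respectTransparency.types false
set_option maxHeartbeats 1000000

open CategoryTheory CategoryTheory.Limits AlgebraicGeometry Topology TopologicalSpace Opposite
  Groth.Agent.MorLib Groth.Agent.MorLib.Desc Groth.Agent.ConsPropLib

namespace Groth.Agent.AmpleX

/-- The points over which the module is ample on the fibre. -/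
def ampleLocus {X Y : Scheme.{u}} (f : X ⟶ Y) (L : X.Modules) : Set Y :=
  {y | CohB1.IsAmple ((Scheme.Modules.pullback (f.fiberι y)).obj L)}

theorem mem_ampleLocus_iff {X Y : Scheme.{u}} (f : X ⟶ Y) [QuasiCompact f] (L : X.Modules) (y : Y) :
    y ∈ ampleLocus f L ↔
      RelAmple.IsRelAmple (f.fiberToSpecResidueField y) ((Scheme.Modules.pullback (f.fiberι y)).obj L) :=
  (isRelAmple_iff_isAmple _ _).symm

theorem ampleLocus_congr {X Y : Scheme.{u}} (f : X ⟶ Y) {L L' : X.Modules} (i : L ≅ L') :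
    ampleLocus f L = ampleLocus f L' :=
  Set.ext fun _ => ⟨isAmple_of_iso ((Scheme.Modules.pullback _).mapIso i),
    isAmple_of_iso ((Scheme.Modules.pullback _).mapIso i.symm)⟩

theorem ampleLocus_preimage {X Y X' Y' : Scheme.{u}} {f : X ⟶ Y} [QuasiCompact f] {L : X.Modules}
    (hL : PicF.IsInvertible L) {g : Y' ⟶ Y} {f' : X' ⟶ Y'} {g' : X' ⟶ X} (hc : IsPullback g' f' f g) :
    ampleLocus f' ((Scheme.Modules.pullback g').obj L) = g ⁻¹' ampleLocus f L := by
  haveI : QuasiCompact f' := MorphismProperty.of_isPullback hc ‹QuasiCompact f›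
  ext y'
  obtain ⟨e, he, heι⟩ := exists_fibre_pullback hc y'
  let i : (Scheme.Modules.pullback (f'.fiberι y')).obj ((Scheme.Modules.pullback g').obj L) ≅
      (Scheme.Modules.pullback e).obj ((Scheme.Modules.pullback (f.fiberι (g y'))).obj L) :=
    (Scheme.Modules.pullbackComp _ _).app L ≪≫ (Scheme.Modules.pullbackCongr heι.symm).app L ≪≫
      ((Scheme.Modules.pullbackComp _ _).app L).symm
  rw [Set.mem_preimage, mem_ampleLocus_iff, mem_ampleLocus_iff]
  constructor
  · intro h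
    let h₀ := Spec.map (g.residueFieldMap y')
    haveI : Flat h₀ := flat_point h₀
    haveI : Surjective h₀ := surjective_of_point h₀
    refine Groth.Agent.S1152.result _ _ (PicClLib.isInvertible_pullback _ hL) h₀ ?_
    refine RGLib.Lim8.isRelAmple_of_iso ?_ (RGLib.Lim8.isRelAmple_of_isPullback
      (IsPullback.of_horiz_isIso (⟨by rw [he.isoPullback_inv_snd, Category.comp_id]⟩ :
        CommSq he.isoPullback.inv (pullback.snd _ _) (f'.fiberToSpecResidueField y') (𝟙 _))) h)
    exact (Scheme.Modules.pullback he.isoPullback.inv).mapIso i ≪≫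
      (Scheme.Modules.pullbackComp _ _).app _ ≪≫ (Scheme.Modules.pullbackCongr he.isoPullback_inv_fst).app _
  · intro h
    exact RGLib.Lim8.isRelAmple_of_iso i.symm (RGLib.Lim8.isRelAmple_of_isPullback he h)

theorem ampleLocus_eq_univ {X Y : Scheme.{u}} {f : X ⟶ Y} {L : X.Modules} (h : RelAmple.IsRelAmple f L) :
    ampleLocus f L = Set.univ := by
  haveI := h.1
  exact Set.eq_univ_of_forall fun y => (mem_ampleLocus_iff f L y).2
    (RGLib.Lim8.isRelAmple_of_isPullback (IsPullback.of_hasPullback f (Y.fromSpecResidueField y)) h)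

section noetherian

variable {X Y : Scheme.{u}} (f : X ⟶ Y) [IsProper f] [IsLocallyNoetherian Y] {L : X.Modules} (hL : PicF.IsInvertible L)

include hL

theorem exists_affine_isRelAmple {y : Y} (hy : y ∈ ampleLocus f L) :
    ∃ W : Y.Opens, y ∈ W ∧ IsAffineOpen W ∧ RelAmple.IsRelAmple (f ∣_ W) (L.restrict (f ⁻¹ᵁ W).ι) := by
  obtain ⟨V, hyV, hV⟩ := NormX.exists_isAmple_nhd f hL y hy
  obtain ⟨W, hW, hyW, hWV⟩ := exists_isAffineOpen_mem_and_subset (show y ∈ V from hyV)
  haveI : IsAffine (W : Scheme.{u}) := hW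
  exact ⟨W, hyW, hW, (isRelAmple_iff_isAmple _ _).2 (hV W hWV hW)⟩

theorem isOpen_ampleLocus_noetherian : IsOpen (ampleLocus f L) := by
  rw [isOpen_iff_forall_mem_open]
  intro y hy
  obtain ⟨W, hyW, -, hW⟩ := exists_affine_isRelAmple f hL hy
  refine ⟨W, fun z hz => ?_, W.2, hyW⟩
  have h1 := ampleLocus_preimage hL (isPullback_morphismRestrict f W).flip
  have h2 := ampleLocus_eq_univ (RGLib.Lim8.isRelAmple_of_iso ((Scheme.Modules.restrictFunctorIsoPullback _).app L) hW)
  rw [h1] at h2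
  have := h2.ge (Set.mem_univ (⟨z, hz⟩ : (W : Scheme.{u})))
  rw [Set.mem_preimage, Scheme.Opens.ι_apply] at this
  exact this

theorem isRelAmple_of_ampleLocus_noetherian (h : ∀ y, y ∈ ampleLocus f L) : RelAmple.IsRelAmple f L := by
  choose W hyW _ hW using fun y => exists_affine_isRelAmple f hL (h y)
  exact (isRelAmple_iff_cover W (top_unique fun y _ => Opens.mem_iSup.2 ⟨y, hyW y⟩)).2 hW

end noetherian

/-- A proper morphism of finite presentation with an invertible module, to an affine scheme, comes from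
one over a noetherian affine scheme. -/
theorem exists_proper_invertible_model {X S : Scheme.{u}} [IsAffine S] (f : X ⟶ S) [IsProper f]
    [LocallyOfFinitePresentation f] {L : X.Modules} (hL : PicF.IsInvertible L) :
    ∃ (S₁ X₁ : Scheme.{u}) (ρ : S ⟶ S₁) (f₁ : X₁ ⟶ S₁) (q : X ⟶ X₁) (G : X₁.Modules),
      IsNoetherian S₁ ∧ IsAffine S₁ ∧ IsProper f₁ ∧ PicF.IsInvertible G ∧ IsPullback q f f₁ ρ ∧
      Nonempty ((Scheme.Modules.pullback q).obj G ≅ L) := by
  let A := Γ(S, ⊤)
  let fA : X ⟶ Spec (CommRingCat.of A) := f ≫ S.isoSpec.hom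
  haveI : Coh.IsQCoh L := ProjUPX.isQCoh_of_isInvertible hL
  obtain ⟨s, X₁, f₁, g₁, G, hlfp, hqc, hqs, sq, hG, hGft, hGfp, ⟨i⟩⟩ :=
    H1FlatLimit.exists_noetherian_descent fA L (SeesawGen.isFP_of_isInvertible hL)
  haveI := hlfp; haveI := hqc; haveI := hqs; haveI := hG
  let D := NoethApprox.diagram (CommRingCat.of A)
  let c : Cone D := NoethApprox.cone (CommRingCat.of A)
  have hc : IsLimit c := NoethApprox.isLimit (CommRingCat.of A)
  haveI : ∀ (i j) (φ : i ⟶ j), IsAffineHom (D.map φ) := fun _ _ φ => NoethApprox.isAffineHom_map _ φ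
  let fc : X ⟶ c.pt := fA
  have sqc : IsPullback g₁ fc f₁ (c.π.app (op s)) := sq
  haveI : ∀ (i j : Over (op s)) (a : i ⟶ j), IsAffineHom ((H1FlatLimit.stages D (op s) f₁).map a) :=
    fun _ _ a => H1FlatLimit.stages_map_isAffineHom D (op s) f₁ a
  haveI : IsAffine (D.obj (op s)) := NoethApprox.isAffine_obj _ _
  haveI : CompactSpace X₁ := QuasiCompact.compactSpace_of_compactSpace f₁
  let T := Over.mk (𝟙 (op s))
  let p : (H1FlatLimit.stages D (op s) f₁).obj T ⟶ X₁ := pullback.fst f₁ (D.map T.hom)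
  haveI : IsIso (D.map T.hom) := by show IsIso (D.map (𝟙 _)); infer_instance
  haveI : IsIso p := inferInstanceAs (IsIso (pullback.fst f₁ (D.map T.hom)))
  haveI : CompactSpace ((H1FlatLimit.stages D (op s) f₁).obj T) := p.homeomorph.symm.compactSpace
  let F₀ := (Scheme.Modules.pullback p).obj G
  haveI : Coh.IsQCoh F₀ := QCoh.isQCoh_pullback _ hG
  have hF₀ : CohB1.IsFP F₀ := RGLib.Lim8.isFP_pullback _ hG hGfp
  have hlim := H1FlatLimit.isLimitStages sqc hc
  have hrank : FlatMod.IsFinLocFreeOfRank 1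
      ((Scheme.Modules.pullback ((H1FlatLimit.stagesCone sqc).π.app T)).obj F₀) := by
    refine InvEnd.isFinLocFreeOfRank_one (H23.PicMul.isInvertible_of_iso ?_ hL)
    exact i.symm ≪≫ (Scheme.Modules.pullbackCongr (H1FlatLimit.toStage_fst sqc T).symm).app G ≪≫
      ((Scheme.Modules.pullbackComp _ p).app G).symm
  obtain ⟨j, φ, hj⟩ := (Groth.Agent.S4792.result (H1FlatLimit.stages D (op s) f₁) (H1FlatLimit.stagesCone sqc) hlim T
    F₀ hF₀ 1).1 hrank
  let fj : (H1FlatLimit.stages D (op s) f₁).obj j ⟶ D.obj j.left := pullback.snd f₁ (D.map j.hom)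
  let qj : X ⟶ (H1FlatLimit.stages D (op s) f₁).obj j := (H1FlatLimit.stagesCone sqc).π.app j
  have sqj : IsPullback qj fc fj (c.π.app j.left) := H1FlatLimit.toStage_isPullback sqc j
  let Gj := (Scheme.Modules.pullback ((H1FlatLimit.stages D (op s) f₁).map φ)).obj F₀
  have hGj : PicF.IsInvertible Gj := CurveDuality.isInvertible_of_rank_one hj
  have eGj : (Scheme.Modules.pullback qj).obj Gj ≅ L :=
    (Scheme.Modules.pullbackComp _ _).app F₀ ≪≫
      (Scheme.Modules.pullbackCongr ((H1FlatLimit.stagesCone sqc).w φ)).app F₀ ≪≫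
      (Scheme.Modules.pullbackComp _ p).app G ≪≫
      (Scheme.Modules.pullbackCongr (H1FlatLimit.toStage_fst sqc T)).app G ≪≫ i
  -- properness at a further stage
  haveI : IsAffine (D.obj j.left) := NoethApprox.isAffine_obj _ _
  haveI : LocallyOfFinitePresentation fj := inferInstanceAs (LocallyOfFinitePresentation (pullback.snd f₁ (D.map j.hom)))
  haveI : QuasiCompact fj := inferInstanceAs (QuasiCompact (pullback.snd f₁ (D.map j.hom)))
  haveI : QuasiSeparated fj := inferInstanceAs (QuasiSeparated (pullback.snd f₁ (D.map j.hom)))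
  haveI : CompactSpace ((H1FlatLimit.stages D (op s) f₁).obj j) := QuasiCompact.compactSpace_of_compactSpace fj
  haveI : QuasiSeparatedSpace ((H1FlatLimit.stages D (op s) f₁).obj j) := quasiSeparatedSpace_of_quasiSeparated fj
  haveI : IsProper fc := inferInstanceAs (IsProper (f ≫ S.isoSpec.hom))
  have hp : IsProper (pullback.snd fj (c.π.app j.left)) :=
    of_two @IsProper sqj (IsPullback.of_hasPullback _ _) ‹IsProper fc›
  obtain ⟨k, ψ, hk⟩ := core_isProper _ D c hc (fun a b f => inferInstance) j.left inferInstance fj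
    inferInstance inferInstance inferInstance hp
  let qk : X ⟶ pullback fj (D.map ψ) := pullback.lift qj (fc ≫ c.π.app k) (by rw [Category.assoc, c.w, sqj.w])
  have sqk : IsPullback qk fc (pullback.snd fj (D.map ψ)) (c.π.app k) := by
    refine IsPullback.of_right ?_ (pullback.lift_snd _ _ _) (IsPullback.of_hasPullback fj (D.map ψ))
    rw [pullback.lift_fst, c.w]
    exact sqj
  refine ⟨D.obj k, _, S.isoSpec.hom ≫ c.π.app k, pullback.snd fj (D.map ψ), qk,
    (Scheme.Modules.pullback (pullback.fst fj (D.map ψ))).obj Gj, NoethApprox.isNoetherian_obj _ k,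
    NoethApprox.isAffine_obj _ k, hk, PicClLib.isInvertible_pullback _ hGj,
    sqk.of_iso (Iso.refl _) (Iso.refl _) S.isoSpec.symm (Iso.refl _) (by simp) (by simp [fc, fA]) (by simp) (by simp),
    ⟨(Scheme.Modules.pullbackComp _ _).app Gj ≪≫ (Scheme.Modules.pullbackCongr (pullback.lift_fst _ _ _)).app Gj ≪≫ eGj⟩⟩

section general

variable {X Y : Scheme.{u}} (f : X ⟶ Y) [IsProper f] [LocallyOfFinitePresentation f] {L : X.Modules}
  (hL : PicF.IsInvertible L)

include hL

theorem exists_chart_ampleLocus (y : Y) :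
    ∃ (W : Y.Opens) (S₁ : Scheme.{u}) (ρ : (W : Scheme.{u}) ⟶ S₁) (E : Set S₁), y ∈ W ∧ IsNoetherian S₁ ∧
      IsAffineHom ρ ∧ IsOpen E ∧ IsAffineOpen W ∧ (W.ι ⁻¹' ampleLocus f L : Set (W : Scheme.{u})) = ρ ⁻¹' E ∧
      ((∀ z, z ∈ ampleLocus f L) → RelAmple.IsRelAmple (f ∣_ W) (L.restrict (f ⁻¹ᵁ W).ι)) := by
  obtain ⟨W, hW, hyW, -⟩ := exists_isAffineOpen_mem_and_subset (x := y) (U := (⊤ : Y.Opens)) trivial
  haveI : IsAffine (W : Scheme.{u}) := hW
  let LW := (Scheme.Modules.pullback (f ⁻¹ᵁ W).ι).obj L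
  obtain ⟨S₁, X₁, ρ, f₁, q, G, _, _, _, hG, sq, ⟨i⟩⟩ :=
    exists_proper_invertible_model (f ∣_ W) (L := LW) (PicClLib.isInvertible_pullback _ hL)
  have h1 := ampleLocus_preimage hL (isPullback_morphismRestrict f W).flip
  have h2 := ampleLocus_preimage hG sq
  rw [ampleLocus_congr _ i, h1] at h2
  refine ⟨W, S₁, ρ, ampleLocus f₁ G, hyW, ‹_›, isAffineHom_of_isAffine _, isOpen_ampleLocus_noetherian f₁ hG, hW, h2,
    fun hall => ?_⟩
  let O : S₁.Opens := ⟨ampleLocus f₁ G, isOpen_ampleLocus_noetherian f₁ hG⟩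
  have hO : ∀ z, ρ z ∈ O := fun z => h2.le (hall (W.ι z))
  let ρ' : (W : Scheme.{u}) ⟶ (O : Scheme.{u}) := IsOpenImmersion.lift O.ι ρ (by
    rintro _ ⟨z, rfl⟩
    rw [Scheme.Opens.range_ι]
    exact hO z)
  have hρ' : ρ' ≫ O.ι = ρ := IsOpenImmersion.lift_fac _ _ _
  let GO := (Scheme.Modules.pullback (f₁ ⁻¹ᵁ O).ι).obj G
  haveI : IsProper (f₁ ∣_ O) := MorphismProperty.of_isPullback (isPullback_morphismRestrict f₁ O).flip ‹IsProper f₁›
  have hOall : ∀ z, z ∈ ampleLocus (f₁ ∣_ O) GO := fun z => by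
    rw [ampleLocus_preimage hG (isPullback_morphismRestrict f₁ O).flip]
    exact z.2
  have hrel := isRelAmple_of_ampleLocus_noetherian (f₁ ∣_ O) (PicClLib.isInvertible_pullback _ hG) hOall
  have hP := isPullback_morphismRestrict f₁ O
  let q' : (f ⁻¹ᵁ W : Scheme.{u}) ⟶ (f₁ ⁻¹ᵁ O : Scheme.{u}) :=
    hP.flip.lift q ((f ∣_ W) ≫ ρ') (by rw [Category.assoc, hρ', sq.w])
  have sq' : IsPullback q' (f ∣_ W) (f₁ ∣_ O) ρ' := by
    refine IsPullback.of_right ?_ (hP.flip.lift_snd _ _ _) hP.flip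
    rw [hρ', hP.flip.lift_fst]
    exact sq
  refine RGLib.Lim8.isRelAmple_of_iso ?_ (RGLib.Lim8.isRelAmple_of_isPullback sq' hrel)
  exact (Scheme.Modules.pullbackComp _ _).app G ≪≫ (Scheme.Modules.pullbackCongr (hP.flip.lift_fst _ _ _)).app G ≪≫ i ≪≫
    ((Scheme.Modules.restrictFunctorIsoPullback _).app L).symm

theorem isOpen_ampleLocus : IsOpen (ampleLocus f L) := by
  rw [isOpen_iff_forall_mem_open]
  intro y hy
  obtain ⟨W, S₁, ρ, E, hyW, _, _, hE, _, h, -⟩ := exists_chart_ampleLocus f hL y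
  refine ⟨W.ι '' (ρ ⁻¹' E), ?_, W.ι.isOpenEmbedding.isOpenMap _ (hE.preimage ρ.continuous),
    ⟨⟨y, hyW⟩, h.le hy, rfl⟩⟩
  rintro _ ⟨z, hz, rfl⟩
  exact h.ge hz

theorem isLocallyConstructible_ampleLocus : IsLocallyConstructible (ampleLocus f L) := fun y => by
  obtain ⟨W, S₁, ρ, E, hyW, _, _, hE, hW, h, -⟩ := exists_chart_ampleLocus f hL y
  haveI : IsAffine (W : Scheme.{u}) := hW
  refine ⟨W, W.2.mem_nhds hyW, W.2, ?_⟩
  change IsConstructible (W.ι ⁻¹' ampleLocus f L : Set (W : Scheme.{u}))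
  rw [h]
  exact LimCons.isConstructible_preimage ρ (SpecLib.isConstructible_of_isOpen hE)

theorem isRelAmple_iff_forall_fibre : RelAmple.IsRelAmple f L ↔ ∀ y, y ∈ ampleLocus f L := by
  refine ⟨fun h y => (ampleLocus_eq_univ h).ge trivial, fun hall => ?_⟩
  choose W S₁ ρ E hyW h1 h2 h3 h4 h5 h6 using exists_chart_ampleLocus f hL
  exact (isRelAmple_iff_cover W (top_unique fun y _ => Opens.mem_iSup.2 ⟨y, hyW y⟩)).2 fun y => h6 y hall

theorem isLocallyConstructible_setOf_forall_fibre {S : Scheme.{u}} (g : Y ⟶ S) [LocallyOfFinitePresentation g]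
    [QuasiCompact g] : IsLocallyConstructible {s : S | ∀ y, g y = s → y ∈ ampleLocus f L} := by
  have he : {s : S | ∀ y, g y = s → y ∈ ampleLocus f L} = (g '' (ampleLocus f L)ᶜ)ᶜ := by
    ext s
    simp only [Set.mem_ofPred_eq, Set.mem_compl_iff, Set.mem_image, not_exists, not_and]
    exact ⟨fun h y hy hgy => hy (h y hgy), fun h y hgy => by_contra fun hy => h y hy hgy⟩
  rw [he]
  exact lc_compl' (g.isLocallyConstructible_image (lc_compl' (isLocallyConstructible_ampleLocus f hL)))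

end general

end Groth.Agent.AmpleX
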